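import Cfsg.Agent.Bal.PSd
import Cfsg.Agent.Bal.Def
import Cfsg.Agent.GLn.AutThm
import Cfsg.Prelude.Def_LieTypeChar

/-! Balance for `PSL_n(q)`. -/

set_option autoImplicit false
set_option linter.dupNamespace false

open Matrix

namespace Cfsg.Agent.Bal

namespace PS

open GLn

variable {F : Type*} [Field F] {n : ℕ}

local notation "Mn" => Matrix (Fin n) (Fin n) F
local notation "SLn" => Matrix.SpecialLinearGroup (Fin n) F
local notation "PSLn" => Matrix.ProjectiveSpecialLinearGroup (Fin n) F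
local notation "πn" => QuotientGroup.mk' (Subgroup.center (Matrix.SpecialLinearGroup (Fin n) F))

/-- the ring automorphism `θ` induces `e` -/
structure Lf (θ : RingAut Mn) (e : MulAut PSLn) : Prop where
  std : ∃ (h : GL (Fin n) F) (σ : RingAut F), ∀ x : Mn, θ x = h.1 * x.map σ * (h⁻¹).1
  lf : ∀ x : SLn, ∃ y : SLn, y.1 = θ x.1 ∧ e (πn x) = πn y

variable {θ θ' : RingAut (Matrix (Fin n) (Fin n) F)} {e e' : MulAut (Matrix.ProjectiveSpecialLinearGroup (Fin n) F)}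

theorem semi_of_std {h : GL (Fin n) F} {σ : RingAut F} (hs : ∀ x : Mn, θ x = h.1 * x.map σ * (h⁻¹).1) : Semi θ σ :=
  fun c x => by
    rw [hs, hs, ← smul_mul_assoc, ← mul_smul_comm]
    congr 2
    ext i j
    simp

theorem Lf.semi (h : Lf θ e) : ∃ σ : RingAut F, Semi θ σ := by
  obtain ⟨k, σ, hs⟩ := h.std
  exact ⟨σ, semi_of_std hs⟩

theorem Lf.one : Lf (1 : RingAut Mn) 1 :=
  ⟨⟨1, 1, fun x => by rw [inv_one, Units.val_one, one_mul, mul_one]; rfl⟩, fun x => ⟨x, rfl, rfl⟩⟩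

theorem Lf.mul (h : Lf θ e) (h' : Lf θ' e') : Lf (θ * θ') (e * e') := by
  refine ⟨?_, fun x => ?_⟩
  · obtain ⟨k, σ, hs⟩ := h.std
    obtain ⟨k', σ', hs'⟩ := h'.std
    refine ⟨k * fldGL σ k', σ * σ', fun x => ?_⟩
    have : ∀ a b : Mn, (a * b).map σ = a.map σ * b.map σ := fun a b => map_mul (σ : F →+* F).mapMatrix a b
    rw [RingAut.mul_apply, hs', hs, this, this, _root_.mul_inv_rev, ← map_inv, Units.val_mul, Units.val_mul,
      fldGL_val, fldGL_val]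
    simp only [mul_assoc]
    rfl
  · obtain ⟨y, y1, y2⟩ := h'.lf x
    obtain ⟨z, z1, z2⟩ := h.lf y
    exact ⟨z, by rw [z1, y1]; rfl, by rw [MulAut.mul_apply, y2, z2]⟩

theorem Lf.pow (h : Lf θ e) (i : ℕ) : Lf (θ ^ i) (e ^ i) := by
  induction i with
  | zero => exact Lf.one
  | succ i ih => rw [pow_succ, pow_succ]; exact ih.mul h

theorem Lf.uniq (h : Lf θ e) (h' : Lf θ e') : e = e' := MulEquiv.ext fun x => by
  obtain ⟨x, rfl⟩ := QuotientGroup.mk'_surjective _ x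
  obtain ⟨y, y1, y2⟩ := h.lf x
  obtain ⟨z, z1, z2⟩ := h'.lf x
  rw [y2, z2, Subtype.ext (y1.trans z1.symm)]

theorem Lf.uniq' [Nontrivial (Fin n)] (h : Lf θ e) (h' : Lf θ' e) : θ = θ' := by
  obtain ⟨σ, hσ⟩ := h'.semi
  refine RingEquiv.ext fun x => θ'.symm_apply_eq.1 (fix_of_tv (θ'⁻¹ * θ : RingAut Mn) (fun i j hij a => ?_) x)
  obtain ⟨y, y1, y2⟩ := h.lf (Matrix.SpecialLinearGroup.transvection hij a)
  obtain ⟨z, z1, z2⟩ := h'.lf (Matrix.SpecialLinearGroup.transvection hij a)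
  obtain ⟨c, hc⟩ := exists_smul_of_mk_eq (y2.symm.trans z2)
  refine ⟨σ.symm c, θ'.symm_apply_eq.2 ?_⟩
  rw [hσ, RingEquiv.apply_symm_apply, ← tv_coe hij, ← z1, ← hc]
  exact y1.symm

theorem exists_lf (h : GL (Fin n) F) (σ : RingAut F) : ∃ θ : RingAut Mn,
    (∀ x : Mn, θ x = h.1 * x.map σ * (h⁻¹).1) ∧ Lf θ (autQ SLn (cjSL h * fldSL σ)) :=
  ⟨σ.mapMatrix.trans (MulSemiringAction.toRingEquiv (ConjAct (GL (Fin n) F)) Mn (ConjAct.toConjAct h)),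
    fun _ => rfl, ⟨h, σ, fun _ => rfl⟩, fun x => ⟨cjSL h (fldSL σ x), rfl, rfl⟩⟩

theorem exists_lf_of_odd [Finite F] (hn : 2 ≤ n) {p : ℕ} (hp : Odd p) (he : e ^ p = 1) : ∃ θ, Lf θ e := by
  obtain ⟨m, rfl⟩ : ∃ m, n = m + 1 := ⟨n - 1, by omega⟩
  obtain ⟨k, rfl⟩ := hp
  have e1 : e = e ^ (k + 1) * e ^ (k + 1) := by
    rw [← pow_add, show k + 1 + (k + 1) = 2 * k + 1 + 1 by ring, pow_succ, he, one_mul]
  obtain ⟨g, σ, h | h⟩ := stdAut_all (by omega) (e ^ (k + 1))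
  · obtain ⟨θ, -, h1⟩ := exists_lf g σ
    exact ⟨θ * θ, by rw [e1, h]; exact h1.mul h1⟩
  · obtain ⟨θ, -, h1⟩ := exists_lf g σ
    obtain ⟨θ', -, h2⟩ := exists_lf (grfGL g) σ
    refine ⟨θ * θ', ?_⟩
    rw [e1, h, ← map_mul, mul_assoc, mul_assoc, ← mul_assoc grfSL, grfSL_cjSL, mul_assoc, ← mul_assoc grfSL,
      grfSL_fldSL, mul_assoc, grfSL_sq, mul_one, ← mul_assoc, map_mul]
    exact h1.mul h2

theorem Lf.dat [Finite F] {p : ℕ} (h : Lf θ e) {g : SLn} {N : Subgroup PSLn} (n1 : πn g ∈ N)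
    (n2 : (Nat.card N).Coprime p) (n3 : ∀ x ∈ N, e x = x)
    (n4 : ∀ ψ : MulAut PSLn, ψ * e = e * ψ → ∀ x ∈ N, ψ x ∈ N) :
    Dat F p θ (Matrix.SpecialLinearGroup.toGL g) := by
  refine ⟨?_, ⟨⟨⟨{k | ∃ s : SLn, πn s ∈ N ∧ ∃ t : F, k.1 = t • s.1}, ?_⟩, ⟨1, by simp, 1, by simp⟩⟩, ?_⟩,
    fun k t hk => ⟨g, n1, t, hk⟩, ?_, ?_⟩
  · obtain ⟨y, y1, y2⟩ := h.lf g
    obtain ⟨c, hc⟩ := exists_smul_of_mk_eq (y2.symm.trans (n3 _ n1))
    exact ⟨c, y1.symm.trans hc⟩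
  · rintro a b ⟨s, s1, t, s2⟩ ⟨s', s1', t', s2'⟩
    exact ⟨s * s', by rw [map_mul]; exact mul_mem s1 s1', t * t', by
      rw [Units.val_mul, s2, s2', smul_mul_smul_comm]; rfl⟩
  · rintro a ⟨s, s1, t, s2⟩
    refine ⟨s⁻¹, by rw [map_inv]; exact inv_mem s1, t⁻¹, ?_⟩
    by_cases ht : t = 0
    · have : Subsingleton Mn := subsingleton_of_zero_eq_one (by rw [← a.mul_inv, s2, ht, zero_smul, zero_mul])
      exact Subsingleton.elim _ _
    · refine Units.inv_eq_of_mul_eq_one_right ?_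
      rw [s2, smul_mul_smul_comm, mul_inv_cancel₀ ht, one_smul, ← Matrix.SpecialLinearGroup.coe_mul, mul_inv_cancel]
      rfl
  · rintro k ⟨s, s1, t, s2⟩
    obtain ⟨c, hc⟩ := exists_smul_of_mk_eq (x := s ^ Nat.card N) (y := 1) (by
      rw [map_pow, map_one]
      exact congrArg Subtype.val (pow_card_eq_one' (x := (⟨_, s1⟩ : N))))
    refine ⟨_, n2, t ^ Nat.card N * c, ?_⟩
    rw [Units.val_pow_eq_pow_val, s2, smul_pow, ← Matrix.SpecialLinearGroup.coe_pow, hc, smul_smul]; rfl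
  · rintro k hk a ⟨s, s1, t, s2⟩
    obtain ⟨ψ, h1, h2⟩ := exists_lf k 1
    have h3 : ψ * θ = θ * ψ := RingEquiv.ext fun x => by
      have : θ (k⁻¹).1 = (k⁻¹).1 := by
        rw [← mul_one (θ _), ← k.mul_inv, ← mul_assoc]
        nth_rewrite 1 [← hk]
        rw [← map_mul, k.inv_mul, map_one, one_mul]
      rw [RingAut.mul_apply, RingAut.mul_apply, h1, h1, map_mul, map_mul, hk, this]; rfl
    refine ⟨cjSL k s, ?_, t, ?_⟩
    · have := n4 _ ((h2.mul h).uniq (h3 ▸ h.mul h2)) _ s1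
      rwa [map_one, mul_one] at this
    · rw [Units.val_mul, Units.val_mul, s2, cjSL_val, mul_smul_comm, smul_mul_assoc]

theorem bal_psl [Finite F] {r p : ℕ} [Fact r.Prime] [Fact p.Prime] [CharP F r] (hn : 2 ≤ n) (hp2 : p ≠ 2)
    (hpr : p ≠ r) : Bal p PSLn := fun E g H => by
  have hp : p.Prime := Fact.out
  have : Nontrivial (Fin n) := Fin.nontrivial_iff_two_le.2 hn
  obtain ⟨g, rfl⟩ := QuotientGroup.mk'_surjective _ g
  obtain ⟨b, hb, hb1⟩ := H.exists_ne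
  obtain ⟨a, ha, hab⟩ := H.exists_gen hb hb1
  obtain ⟨a', ha'⟩ := exists_lf_of_odd hn (hp.odd_of_ne_two hp2) (H.pow a ha)
  obtain ⟨b', hb'⟩ := exists_lf_of_odd hn (hp.odd_of_ne_two hp2) (H.pow b hb)
  let E' : Submonoid (RingAut Mn) :=
    { carrier := {θ | ∃ e ∈ E, Lf θ e}
      one_mem' := ⟨1, one_mem _, Lf.one⟩
      mul_mem' := fun ⟨e, he, h⟩ ⟨e', he', h'⟩ => ⟨_, mul_mem he he', h.mul h'⟩ }
  have := mainM (F := F) (r := r) hp2 hpr (fun x => scalar_of_comm) E' (fun θ ⟨e, _, h⟩ => h.semi)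
    (fun θ ⟨e, _, h⟩ h1 => by
      obtain ⟨k, σ, hs⟩ := h.std
      obtain rfl := (semi_of_std hs).uniq h1
      exact ⟨k, hs⟩)
    (fun θ ⟨e, he, h⟩ => (H.pow e he ▸ h.pow p).uniq' Lf.one)
    (fun θ ⟨e, he, h⟩ θ' ⟨e', he', h'⟩ => (h.mul h').uniq' (H.comm e he e' he' ▸ h'.mul h))
    (a := a') (b := b') ⟨a, ha, ha'⟩ ⟨b, hb, hb'⟩ (fun h => hb1 ((h ▸ hb').uniq Lf.one))
    (fun j h => hp.one_lt.ne' (Nat.dvd_one.1 (hab j 1 (by
      rw [pow_one, H.comm _ (pow_mem hb j) a ha]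
      exact (h ▸ ha'.mul (hb'.pow j)).uniq Lf.one)).2))
    (g := Matrix.SpecialLinearGroup.toGL g) fun θ ⟨e, he, h⟩ h1 => by
      obtain ⟨N, n1, n2, n3, n4⟩ := H.core e he (by rintro rfl; exact h1 (h.uniq' Lf.one))
      exact h.dat n1 n2 n3 n4
  exact (QuotientGroup.eq_one_iff g).2 (Subgroup.mem_center_iff.2 fun x => Subtype.ext (this x.1).symm)

end PS

theorem fam_PSL {G : Type*} [Group G] [Finite G] {r p : ℕ} [Fact r.Prime] [Fact p.Prime]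
    (hG : Cfsg.IsPSLChar r G) (hp2 : p ≠ 2) (hpr : p ≠ r) : Bal p G := by
  obtain ⟨F, _, _, _, n, hn, -, ⟨φ⟩⟩ := hG
  exact Bal.congr φ (PS.bal_psl hn hp2 hpr)

end Cfsg.Agent.Bal
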