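import Mathlib
import Cfsg.Agent.GLn.Transv

/-! Normal `p'`-subgroups of `SL(ι, D)`. -/

set_option autoImplicit false
set_option linter.dupNamespace false

open Matrix
open scoped LinearAlgebra.Projectivization Pointwise

namespace Cfsg.Agent.Bal.PS

open GLn Matrix.SpecialLinearGroup

variable {D : Type*} [Field D] {ι : Type*} [Fintype ι] [DecidableEq ι]

local notation "SLι" => Matrix.SpecialLinearGroup ι D
local notation "tv" => Matrix.SpecialLinearGroup.transvection

theorem lineStab_pow (r : ℕ) [CharP D r] {v : ι → D} (hv : v ≠ 0) {q : SLι}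
    (hq : q ∈ lineStab (Submodule.span D {v})) : q ^ r = 1 := by
  have key : ∀ (w : ι → D) (k : ℕ), q ^ k • w = w + (k : D) • (q • w - w) := fun w k => by
    obtain ⟨α, hα⟩ := Submodule.mem_span_singleton.mp (hq w)
    have h1 : q • (q • w - w) = q • w - w := by
      rw [← hα, smul_comm, lineStab_fix_of_span v hv q hq]
    induction k with
    | zero => simp
    | succ k ih =>
      rw [pow_succ', mul_smul, ih, smul_add, smul_comm q (k : D), h1, Nat.cast_succ, add_smul, one_smul]
      abel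
  refine Subtype.ext <| ext_iff_smul.2 fun w => ?_
  have := key w r
  rw [CharP.cast_eq_zero, zero_smul, add_zero] at this
  rw [← Matrix.SpecialLinearGroup.smul_def, this, ← Matrix.SpecialLinearGroup.smul_def, one_smul]

theorem pow_mem_of_normal [Nontrivial ι] (r : ℕ) [CharP D r] (N : Subgroup SLι) [N.Normal]
    (hN : ¬ N ≤ Subgroup.center SLι) (x : SLι) : x ^ r ∈ N := by
  have ht : MulAction.IsPretransitive N (ℙ D (ι → D)) :=
    MulAction.IsQuasiPreprimitive.isPretransitive_of_normal fun h => hN fun n hn => by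
      rw [← Projectivization.SL_mulAction_ker, MonoidHom.mem_ker]
      ext1 l
      exact (h.ge (Set.mem_univ l)) ⟨n, hn⟩
  obtain ⟨i0⟩ : Nonempty ι := inferInstance
  have h0 : ∀ i : ι, (Pi.single i 1 : ι → D) ≠ 0 := fun i => Pi.single_ne_zero_iff.2 one_ne_zero
  set Q : Subgroup SLι := lineStab (Submodule.span D {(Pi.single i0 1 : ι → D)}) with hQ
  have hT : (Q.map (QuotientGroup.mk' N)).comap (QuotientGroup.mk' N) = ⊤ :=
    eq_top_of_tv_mem fun i j hij a => by
      obtain ⟨n, hn⟩ := MulAction.exists_smul_eq N (Projectivization.mk D _ (h0 i0)) (Projectivization.mk D _ (h0 i))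
      have h1 := SL2Gen.transvection_mem_lineStab (F := D) hij a
      rw [← Projectivization.submodule_mk (K := D) _ (h0 i), ← hn, Subgroup.smul_def, PSL.smul_submodule,
        lineStab_smul, Projectivization.submodule_mk, Subgroup.mem_pointwise_smul_iff_inv_smul_mem] at h1
      refine ⟨_, h1, ?_⟩
      have : ((n : SLι) : SLι ⧸ N) = 1 := (QuotientGroup.eq_one_iff _).2 n.2
      simp [this]
  obtain ⟨q, hq, e⟩ := hT.ge (Subgroup.mem_top x)
  rw [← QuotientGroup.eq_one_iff, QuotientGroup.mk_pow]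
  change (QuotientGroup.mk' N x) ^ r = 1
  rw [← e, ← map_pow, lineStab_pow r (h0 i0) hq, map_one]

/-- a ring endomorphism fixing all transvections up to scalars is trivial -/
theorem fix_of_tv [Nontrivial ι] (θ : Matrix ι ι D →+* Matrix ι ι D)
    (h : ∀ (i j : ι), i ≠ j → ∀ a : D, ∃ c : D, θ (1 + single i j a) = c • (1 + single i j a))
    (x : Matrix ι ι D) : θ x = x := by
  have h1 : ∀ (i j : ι), i ≠ j → ∀ a : D, θ (single i j a) = single i j a := fun i j hij a => by
    obtain ⟨c, hc⟩ := h i j hij a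
    have e : single i j a * single i j a = 0 := single_mul_single_of_ne _ _ _ _ hij.symm _
    have h2 : θ (single i j a) = (c - 1) • 1 + c • single i j a := by
      rw [map_add, map_one, ← eq_sub_iff_add_eq'] at hc
      rw [hc, smul_add, sub_smul, one_smul]; abel
    have h3 : θ (single i j a) * θ (single i j a) = 0 := by rw [← map_mul, e, map_zero]
    rw [h2] at h3
    simp only [add_mul, mul_add, smul_mul_assoc, mul_smul_comm, one_mul, mul_one, e, smul_zero, add_zero] at h3
    have h4 := congrFun (congrFun h3 i) i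
    simp [hij.symm] at h4
    rw [h2, h4, zero_smul, zero_add, sub_eq_zero.1 h4, one_smul]
  have h2 : ∀ (i j : ι) (a : D), θ (single i j a) = single i j a := fun i j a => by
    by_cases hij : i = j
    · subst hij
      obtain ⟨k, hk⟩ := exists_ne i
      have : single i i a = single i k a * single k i (1 : D) := by rw [single_mul_single_same, mul_one]
      rw [this, map_mul, h1 i k hk.symm, h1 k i hk]
    · exact h1 i j hij a
  rw [matrix_eq_sum_single x]
  simp only [map_sum, h2]

theorem scalar_of_comm {x : Matrix ι ι D} (h : ∀ y, x * y = y * x) : ∃ c : D, x = c • 1 := by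
  obtain ⟨c, hc⟩ := Matrix.mem_range_scalar_of_commute_single (M := x) fun i j _ => (h _).symm
  exact ⟨c, by rw [← hc, scalar_apply, smul_one_eq_diagonal]⟩

theorem sl_center_comm {x : SLι} (h : x ∈ Subgroup.center SLι) (y : Matrix ι ι D) : x.1 * y = y * x.1 := by
  obtain ⟨c, -, hc⟩ := Matrix.SpecialLinearGroup.mem_center_iff.1 h
  rw [← hc]
  exact scalar_commute c (fun _ => Commute.all _ _) y

theorem comm_of_pow {R : Type*} [Monoid R] {u : Rˣ} {a b : ℕ} (hab : a.Coprime b) {x : R}
    (ha : (u ^ a).1 * x = x * (u ^ a).1) (hb : (u ^ b).1 * x = x * (u ^ b).1) : u.1 * x = x * u.1 := by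
  let C : Subgroup Rˣ :=
    { carrier := {v | Commute v.1 x}
      one_mem' := Commute.one_left x
      mul_mem' := fun h1 h2 => Commute.mul_left h1 h2
      inv_mem' := fun h => Commute.units_inv_left h }
  have e : u = (u ^ a) ^ (Nat.gcdA a b) * (u ^ b) ^ (Nat.gcdB a b) := by
    rw [← zpow_natCast, ← zpow_natCast, ← _root_.zpow_mul, ← _root_.zpow_mul, ← _root_.zpow_add, ← Nat.gcd_eq_gcd_ab, hab]; simp
  have : u ∈ C := e ▸ mul_mem (zpow_mem (show u ^ a ∈ C from ha) _) (zpow_mem (show u ^ b ∈ C from hb) _)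
  exact this

/-- an element of `SL` which has order `p` modulo the centre -/
def HasP (p : ℕ) (ι D : Type*) [Field D] [Fintype ι] [DecidableEq ι] : Prop :=
  ∃ y : Matrix.SpecialLinearGroup ι D, (¬ ∀ x, y.1 * x = x * y.1) ∧ ∀ x, (y ^ p).1 * x = x * (y ^ p).1

theorem HasP.of_root [Nontrivial ι] {p : ℕ} [Fact p.Prime] (hp : p ≠ 2) {c : D} (h1 : c ≠ 1) (h2 : c ^ p = 1) :
    HasP p ι D := by
  obtain ⟨i, j, hij⟩ := exists_pair_ne ι
  have hp' : p.Prime := Fact.out
  have h0 : c ≠ 0 := by rintro rfl; rw [zero_pow hp'.ne_zero] at h2; exact zero_ne_one h2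
  refine ⟨diag2n hij c h0, fun h => ?_, fun x => ?_⟩
  · have := congrFun (congrFun (h (single i j 1)) i) j
    simp [diag2n_coe, hij.symm] at this
    have h3 : c ^ 2 = 1 := by rw [sq]; nth_rewrite 2 [this]; exact mul_inv_cancel₀ h0
    exact h1 (orderOf_eq_one_iff.1 (Nat.eq_one_of_dvd_coprimes ((Nat.coprime_primes Nat.prime_two hp').2 hp.symm)
      (orderOf_dvd_of_pow_eq_one h3) (orderOf_dvd_of_pow_eq_one h2)))
  · have : (diag2n hij c h0 ^ p).1 = 1 := by
      rw [Matrix.SpecialLinearGroup.coe_pow, diag2n_coe, diagonal_pow, ← diagonal_one]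
      congr 1
      ext k
      simp only [Pi.pow_apply]
      split_ifs <;> simp [h2]
    rw [this, one_mul, mul_one]

theorem HasP.of_unit [Finite D] {p : ℕ} [Fact p.Prime] (hp : p ≠ 2) {u : (Matrix ι ι D)ˣ}
    (h1 : ¬ ∀ x, u.1 * x = x * u.1) (h2 : ∀ x, (u ^ p).1 * x = x * (u ^ p).1) : HasP p ι D := by
  have hp' : p.Prime := Fact.out
  have : Nontrivial ι := by
    by_contra hc
    rw [not_nontrivial_iff_subsingleton] at hc
    refine h1 fun x => ?_
    ext i j
    simp only [mul_apply]
    exact Finset.sum_congr rfl fun k _ => by rw [mul_comm, Subsingleton.elim i k, Subsingleton.elim j k]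
  by_cases hd : p ∣ Nat.card Dˣ
  · obtain ⟨c, hc⟩ := exists_prime_orderOf_dvd_card' p hd
    refine HasP.of_root hp (c := c.1) (fun h => ?_) ?_
    · rw [Units.ext (show c.1 = (1 : Dˣ).1 from h), orderOf_one] at hc
      exact hp'.one_lt.ne hc
    · rw [← Units.val_pow_eq_pow_val, ← hc, pow_orderOf_eq_one, Units.val_one]
  · refine ⟨⟨(u ^ Nat.card Dˣ).1, ?_⟩, fun h => h1 fun x => ?_, fun x => ?_⟩
    · rw [← Matrix.GeneralLinearGroup.val_det_apply, map_pow, pow_card_eq_one', Units.val_one]
    · exact comm_of_pow ((Nat.Prime.coprime_iff_not_dvd hp').2 hd) (h2 x) (h x)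
    · change (u ^ Nat.card Dˣ).1 ^ p * x = x * (u ^ Nat.card Dˣ).1 ^ p
      rw [← Units.val_pow_eq_pow_val, ← pow_mul, mul_comm _ p, pow_mul, Units.val_pow_eq_pow_val]
      exact Commute.pow_left (h2 x) _

/-- the component lemma -/
theorem comp {r p : ℕ} [CharP D r] (hrp : r.Coprime p) (hy : HasP p ι D) (N : Subgroup SLι) [N.Normal]
    (hN : ∀ k ∈ N, ∃ m : ℕ, m.Coprime p ∧ ∀ x, (k ^ m).1 * x = x * (k ^ m).1) (γ : (Matrix ι ι D)ˣ)
    (hγ : ∀ k : SLι, ∃ k' ∈ N, k'.1 * k.1 = γ.1 * k.1 * (γ⁻¹).1) (x : Matrix ι ι D) : γ.1 * x = x * γ.1 := by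
  obtain ⟨y, h1, h2⟩ := hy
  have : Nontrivial ι := by
    by_contra hc
    rw [not_nontrivial_iff_subsingleton] at hc
    refine h1 fun x => ?_
    ext i j
    simp only [mul_apply]
    exact Finset.sum_congr rfl fun k _ => by rw [mul_comm, Subsingleton.elim i k, Subsingleton.elim j k]
  by_cases hc : N ≤ Subgroup.center SLι
  · have := fix_of_tv (MulSemiringAction.toRingHom (ConjAct (Matrix ι ι D)ˣ) _ (ConjAct.toConjAct γ))
      (fun i j hij a => by
        obtain ⟨k', hk, e⟩ := hγ (tv hij a)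
        obtain ⟨c, hc⟩ := scalar_of_comm (sl_center_comm (hc hk))
        refine ⟨c, ?_⟩
        rw [hc, smul_mul_assoc, one_mul, tv_coe] at e
        rw [e]; rfl) x
    exact (Units.mul_inv_eq_iff_eq_mul γ).1 this
  · obtain ⟨m, hm, h3⟩ := hN _ (pow_mem_of_normal r N hc y)
    refine (h1 fun x => ?_).elim
    exact comm_of_pow (u := Matrix.SpecialLinearGroup.toGL y) (Nat.Coprime.mul_left hrp hm)
      (by rw [← map_pow, pow_mul]; exact h3 x) (by rw [← map_pow]; exact h2 x)

end Cfsg.Agent.Bal.PS
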