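import Cfsg.Agent.Bal.PSa
import Cfsg.Agent.GLn.AutStd

/-! Normal `p'`-subgroups of the unit group of a finite semisimple ring. -/

set_option autoImplicit false
set_option linter.dupNamespace false

open Matrix

namespace Cfsg.Agent.Bal.PS

open GLn

universe u

theorem wedder (A : Type u) [Ring A] [Finite A] [IsSemisimpleRing A] :
    ∃ (n : ℕ) (D : Fin n → Type u) (d : Fin n → ℕ) (_ : ∀ i, Field (D i)), (∀ i, Finite (D i)) ∧
      (∀ i, NeZero (d i)) ∧ Nonempty (A ≃+* Π i, Matrix (Fin (d i)) (Fin (d i)) (D i)) := by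
  obtain ⟨n, D, d, _, hd, ⟨e⟩⟩ := IsSemisimpleRing.exists_ringEquiv_pi_matrix_divisionRing A
  have h : ∀ i, Finite (D i) := fun i =>
    Finite.of_surjective (fun a : A => e a i 0 0) fun c => ⟨e.symm (Pi.single i (Matrix.of fun _ _ => c)), by simp⟩
  exact ⟨n, D, d, fun i => littleWedderburn (D i), h, hd, ⟨e⟩⟩

variable {A : Type u} [Ring A] {r p : ℕ}

theorem pi_comp {n : ℕ} {D : Fin n → Type u} {d : Fin n → ℕ} [∀ i, Field (D i)]
    (e : A ≃+* Π i, Matrix (Fin (d i)) (Fin (d i)) (D i)) (i : Fin n) [CharP (D i) r] (hrp : r.Coprime p)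
    (N : Subgroup Aˣ) [N.Normal] (hN : ∀ k ∈ N, ∃ m : ℕ, m.Coprime p ∧ ∀ x, (k ^ m).1 * x = x * (k ^ m).1)
    {γ : Aˣ} (hγ : γ ∈ N) (hy : HasP p (Fin (d i)) (D i)) (x : Matrix (Fin (d i)) (Fin (d i)) (D i)) :
    e γ.1 i * x = x * e γ.1 i := by
  let j : Matrix.SpecialLinearGroup (Fin (d i)) (D i) →* Aˣ :=
    (Units.map (e.symm.toMonoidHom.comp
      (MonoidHom.mulSingle (fun i => Matrix (Fin (d i)) (Fin (d i)) (D i)) i))).comp Matrix.SpecialLinearGroup.toGL
  have hj : ∀ k, e (j k).1 = Pi.mulSingle i k.1 := fun k => e.apply_symm_apply _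
  let γi : (Matrix (Fin (d i)) (Fin (d i)) (D i))ˣ :=
    Units.map ((Pi.evalMonoidHom (fun i => Matrix (Fin (d i)) (Fin (d i)) (D i)) i).comp e.toMonoidHom) γ
  refine comp hrp hy (N.comap j) (fun k hk => ?_) γi (fun k => ⟨cjSL γi k * k⁻¹, ?_, ?_⟩) x
  · obtain ⟨m, hm, h⟩ := hN _ hk
    refine ⟨m, hm, fun x => ?_⟩
    have := congrFun (congrArg e (h (e.symm (Pi.single i x)))) i
    rw [← map_pow, map_mul, map_mul, hj] at this
    simpa using this
  · have : j (cjSL γi k) = γ * j k * γ⁻¹ := by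
      refine Units.ext (e.injective (funext fun l => ?_))
      rw [Units.val_mul, Units.val_mul, map_mul, map_mul, hj, hj]
      by_cases hl : l = i
      · subst hl
        simp only [Pi.mul_apply, Pi.mulSingle_eq_same]
        rfl
      · simp only [Pi.mul_apply, Pi.mulSingle_eq_of_ne hl, mul_one]
        rw [← Pi.mul_apply, ← map_mul, Units.mul_inv, map_one, Pi.one_apply]
    rw [Subgroup.mem_comap, map_mul, this, map_inv, mul_assoc, mul_assoc, ← mul_assoc (j k)]
    exact mul_mem hγ (‹N.Normal›.conj_mem _ (inv_mem hγ) _)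
  · rw [← Matrix.SpecialLinearGroup.coe_mul, inv_mul_cancel_right, cjSL_val]

theorem ringZ [Finite A] [IsSemisimpleRing A] [Fact r.Prime] [Fact p.Prime] (hr : (r : A) = 0) (hp2 : p ≠ 2)
    (hpr : p ≠ r) (N : Subgroup Aˣ) [N.Normal]
    (hN : ∀ k ∈ N, ∃ m : ℕ, m.Coprime p ∧ ∀ x, (k ^ m).1 * x = x * (k ^ m).1) {γ : Aˣ} (hγ : γ ∈ N) :
    (∀ u : Aˣ, (∀ x, (u ^ p).1 * x = x * (u ^ p).1) → ∀ x, Commute γ.1 (x - u.1 * x * (u⁻¹).1)) ∧
    (∀ ζ : A, (∀ x, ζ * x = x * ζ) → ζ ^ p = 1 → IsUnit (ζ - 1) → ∀ x, Commute γ.1 x) := by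
  obtain ⟨n, D, d, _, _, hd, ⟨e⟩⟩ := wedder A
  have hc : ∀ i, CharP (D i) r := fun i => (CharP.charP_iff_prime_eq_zero Fact.out).2 (by
    have := congrFun (congrFun (congrFun (congrArg e hr) i) 0) 0
    rw [map_natCast, map_zero] at this
    simpa [Matrix.natCast_apply] using this)
  have hrp : r.Coprime p := (Nat.coprime_primes Fact.out Fact.out).2 hpr.symm
  have hs : ∀ (i) {z : A}, (∀ x, z * x = x * z) → ∀ x, e z i * x = x * e z i := fun i z h x => by
    simpa using congrFun (congrArg e (h (e.symm (Pi.single i x)))) i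
  refine ⟨fun u hu x => e.injective (funext fun i => ?_), fun ζ h1 h2 h3 x => e.injective (funext fun i => ?_)⟩
  · rw [map_mul, map_mul, Pi.mul_apply, Pi.mul_apply]
    let ui : (Matrix (Fin (d i)) (Fin (d i)) (D i))ˣ :=
      Units.map ((Pi.evalMonoidHom (fun i => Matrix (Fin (d i)) (Fin (d i)) (D i)) i).comp e.toMonoidHom) u
    by_cases h : ∀ y, ui.1 * y = y * ui.1
    · have : e (x - u.1 * x * (u⁻¹).1) i = 0 := by
        rw [map_sub, map_mul, map_mul, Pi.sub_apply, Pi.mul_apply, Pi.mul_apply]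
        change _ - ui.1 * _ * (ui⁻¹).1 = 0
        rw [h, Units.mul_inv_cancel_right, sub_self]
      rw [this, mul_zero, zero_mul]
    · exact pi_comp e i hrp N hN hγ (HasP.of_unit hp2 h (by rw [← map_pow]; exact hs i hu)) _
  · rw [map_mul, map_mul, Pi.mul_apply, Pi.mul_apply]
    rcases subsingleton_or_nontrivial (Fin (d i)) with h | h
    · ext a b
      simp only [mul_apply]
      exact Finset.sum_congr rfl fun k _ => by rw [mul_comm, Subsingleton.elim a k, Subsingleton.elim b k]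
    obtain ⟨c, hc'⟩ := scalar_of_comm (hs i h1)
    refine pi_comp e i hrp N hN hγ (HasP.of_root hp2 (c := c) ?_ ?_) _
    · rintro rfl
      have := (h3.map e).map (Pi.evalMonoidHom (fun i => Matrix (Fin (d i)) (Fin (d i)) (D i)) i)
      rw [map_sub, map_one, Pi.evalMonoidHom_apply, Pi.sub_apply, hc', one_smul, Pi.one_apply, sub_self] at this
      exact not_isUnit_zero this
    · have := congrFun (congrArg e h2) i
      rw [map_pow, map_one, Pi.pow_apply, hc', smul_pow, one_pow] at this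
      simpa using congrFun (congrFun this 0) 0

variable {M : Type u} [Ring M]

/-- the trace of a ring automorphism of order `p` -/
def nrm (p : ℕ) (θ : RingAut M) (y : M) : M := ∑ i ∈ Finset.range p, (θ ^ i) y

theorem nrm_fix {θ : RingAut M} (h : θ ^ p = 1) (y : M) : θ (nrm p θ y) = nrm p θ y := by
  have h1 := Finset.sum_range_succ (fun i => (θ ^ i) y) p
  rw [Finset.sum_range_succ'] at h1
  simp only [h, pow_zero] at h1
  rw [nrm, map_sum, ← add_right_cancel h1]
  exact Finset.sum_congr rfl fun i _ => by rw [pow_succ']; rfl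

theorem pow_fix {θ : RingAut M} {x : M} (h : θ x = x) (i : ℕ) : (θ ^ i) x = x := by
  induction i with
  | zero => rfl
  | succ i ih => rw [pow_succ]; exact (congrArg (θ ^ i) h).trans ih

theorem nrm_mul {θ : RingAut M} {x z : M} (hx : θ x = x) (hz : θ z = z) (y : M) :
    nrm p θ (x * y * z) = x * nrm p θ y * z := by
  simp only [nrm, map_mul, pow_fix hx, pow_fix hz, Finset.mul_sum, Finset.sum_mul]

theorem nrm_of_fix {θ : RingAut M} {x : M} (hx : θ x = x) : nrm p θ x = p • x := by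
  simp [nrm, pow_fix hx]

/-- the fixed ring -/
abbrev Fix (θ : RingAut M) : Subring M := RingHom.eqLocus (θ : M →+* M) (RingHom.id M)

theorem fix_semisimple [Finite M] [IsSemisimpleRing M] {θ : RingAut M} (h : θ ^ p = 1) {c : ℕ}
    (hc : ∀ y : M, (c * p) • y = y) : IsSemisimpleRing (Fix θ) := by
  rw [IsArtinianRing.isSemisimpleRing_iff_jacobson, eq_bot_iff, ← Ideal.jacobson_bot]
  intro x hx
  obtain ⟨e, he, h1⟩ := IsSemisimpleRing.ideal_eq_span_idempotent (Ideal.span {x.1})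
  obtain ⟨a, ha⟩ := Ideal.mem_span_singleton'.1 (h1.le (Ideal.mem_span_singleton_self x.1))
  obtain ⟨y, hy⟩ := Ideal.mem_span_singleton'.1 (h1.ge (Ideal.mem_span_singleton_self e))
  have h2 : x.1 * y * x.1 = x.1 := by rw [mul_assoc, hy, ← ha, mul_assoc, he]
  have hx' : θ x.1 = x.1 := x.2
  let y' : Fix θ := ⟨c • nrm p θ y, by change θ _ = _; rw [map_nsmul, nrm_fix h]; rfl⟩
  have h3 : x * y' * x = x := Subtype.ext (by
    change x.1 * c • nrm p θ y * x.1 = x.1
    rw [mul_smul_comm, smul_mul_assoc, ← nrm_mul hx' hx', h2, nrm_of_fix hx', smul_smul, hc])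
  obtain ⟨z, hz⟩ := Ideal.mem_jacobson_iff.1 hx (-y')
  rw [Ideal.mem_bot, sub_eq_zero] at hz
  have h4 : y' * x = 0 := by
    rw [← one_mul (y' * x), ← hz, add_mul, mul_neg, neg_mul, neg_mul, mul_assoc z, mul_assoc z, mul_assoc y',
      ← mul_assoc x, h3, neg_add_cancel]
  rw [Ideal.mem_bot, ← h3, mul_assoc, h4, mul_zero]

end Cfsg.Agent.Bal.PS
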