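import Cfsg.Agent.Bal.PSb

/-! Averaging tricks for groups of ring automorphisms of exponent `p`. -/

set_option autoImplicit false
set_option linter.dupNamespace false

namespace Cfsg.Agent.Bal.PS

universe u

variable {M : Type u} [Ring M] {p : ℕ}

theorem nrm_add (θ : RingAut M) (x y : M) : nrm p θ (x + y) = nrm p θ x + nrm p θ y := by
  simp only [nrm, map_add, Finset.sum_add_distrib]

theorem nrm_sub (θ : RingAut M) (x y : M) : nrm p θ (x - y) = nrm p θ x - nrm p θ y := by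
  simp only [nrm, map_sub, Finset.sum_sub_distrib]

theorem nrm_apply {θ : RingAut M} (h : θ ^ p = 1) (y : M) : nrm p θ (θ y) = nrm p θ y := by
  rw [← nrm_fix h y, nrm, nrm, map_sum]
  exact Finset.sum_congr rfl fun i _ => DFunLike.congr_fun ((pow_succ θ i).symm.trans (pow_succ' θ i)) y

theorem nrm_apply_pow {θ : RingAut M} (h : θ ^ p = 1) (k : ℕ) (y : M) : nrm p θ ((θ ^ k) y) = nrm p θ y := by
  induction k with
  | zero => rfl
  | succ k ih => rw [pow_succ', ← ih]; exact nrm_apply h _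

theorem nrm_pow [Fact p.Prime] {c : ℕ} (hc : ∀ y : M, (c * p) • y = y) {θ : RingAut M} (h : θ ^ p = 1) {i : ℕ}
    (hi : ¬ p ∣ i) (y : M) : nrm p (θ ^ i) y = nrm p θ y := by
  obtain ⟨k, hk⟩ := exists_pow_eq_self_of_coprime (x := θ) (n := i)
    (((Nat.Prime.coprime_iff_not_dvd Fact.out).2 hi).symm.coprime_dvd_right (orderOf_dvd_of_pow_eq_one h))
  have h1 : θ (nrm p (θ ^ i) y) = nrm p (θ ^ i) y := by
    nth_rewrite 1 [← hk]
    exact pow_fix (nrm_fix (by rw [← pow_mul, mul_comm, pow_mul, h, one_pow]) y) k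
  have h2 : nrm p θ (nrm p (θ ^ i) y) = p • nrm p θ y := by
    have : ∀ s : Finset ℕ, nrm p θ (∑ j ∈ s, ((θ ^ i) ^ j) y) = ∑ j ∈ s, nrm p θ (((θ ^ i) ^ j) y) := fun s => by
      simp only [nrm, map_sum]; exact Finset.sum_comm
    rw [nrm.eq_1 p (θ ^ i), this]
    simp only [← pow_mul, nrm_apply_pow h, Finset.sum_const, Finset.card_range]
  rw [← hc (nrm p (θ ^ i) y), ← hc (nrm p θ y), ← smul_smul, ← smul_smul, ← h2, nrm_of_fix h1]

/-- `M` is the sum of the fixed rings of the nontrivial elements of `⟨a, b⟩ ≅ p²` -/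
theorem sum_fix [Fact p.Prime] {c : ℕ} (hc : ∀ y : M, (c * p) • y = y) {a b : RingAut M} (ha : a ^ p = 1)
    (hb : b ^ p = 1) (hab : Commute a b) (T : AddSubgroup M) (h1 : ∀ j x, (a * b ^ j) x = x → x ∈ T)
    (h2 : ∀ x, b x = x → x ∈ T) (y : M) : y ∈ T := by
  have hp : p.Prime := Fact.out
  have e : ∑ j ∈ Finset.range p, nrm p (a * b ^ j) y = ∑ i ∈ Finset.range p, (a ^ i) (nrm p (b ^ i) y) := by
    simp only [nrm, map_sum]
    rw [Finset.sum_comm]
    refine Finset.sum_congr rfl fun i _ => Finset.sum_congr rfl fun j _ => ?_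
    rw [(hab.pow_right j).mul_pow, ← pow_mul, ← pow_mul, mul_comm j i]; rfl
  have e2 : ∑ i ∈ Finset.range p, ((a ^ i) (nrm p (b ^ i) y) - (a ^ i) (nrm p b y)) = p • y - nrm p b y := by
    rw [Finset.sum_eq_single 0 (fun i hi h0 => by
      rw [nrm_pow hc hb (Nat.not_dvd_of_pos_of_lt (Nat.pos_of_ne_zero h0) (Finset.mem_range.1 hi)), sub_self])
      (fun h => (h (Finset.mem_range.2 hp.pos)).elim), pow_zero, pow_zero, nrm_of_fix (θ := 1) rfl]
    rfl
  rw [Finset.sum_sub_distrib, ← e, sub_eq_sub_iff_sub_eq_sub, sub_eq_iff_eq_add, ← sub_eq_iff_eq_add'] at e2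
  rw [← hc y, ← smul_smul, ← e2]
  refine nsmul_mem (sub_mem (sum_mem fun j _ => h1 j _ (nrm_fix ?_ _)) (sub_mem (h1 0 _ ?_) (h2 _ (nrm_fix hb _)))) _
  · rw [(hab.pow_right j).mul_pow, ha, ← pow_mul, mul_comm j, pow_mul, hb, one_pow, mul_one]
  · rw [pow_zero, mul_one]; exact nrm_fix ha _

/-- the ideal trick -/
theorem ideal_trick [IsSimpleRing M] {c : ℕ} (hc : ∀ y : M, (c * p) • y = y) {f : RingAut M} (hf : f ^ p = 1)
    (h1 : f ≠ 1) (C : Subring M) (hC : ∀ y, y - f y ∈ C) (x : M) : x ∈ C := by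
  have k1 : ∀ (y : M) (i : ℕ), y - (f ^ i) y ∈ C := fun y i => by
    induction i with
    | zero => simp
    | succ i ih =>
      have := add_mem ih (hC ((f ^ i) y))
      rwa [sub_add_sub_cancel, ← RingAut.mul_apply, ← pow_succ'] at this
  have k2 : ∀ x, nrm p f x = 0 → x ∈ C := fun x hx => by
    have : p • x = ∑ i ∈ Finset.range p, (x - (f ^ i) x) := by
      rw [Finset.sum_sub_distrib, ← nrm, hx]; simp
    rw [← hc x, ← smul_smul, this]
    exact nsmul_mem (sum_mem fun i _ => k1 x i) _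
  have k3 : ∀ x, ∃ x0 x1, x = x0 + x1 ∧ f x0 = x0 ∧ nrm p f x1 = 0 := fun x => by
    have : f (c • nrm p f x) = c • nrm p f x := by rw [map_nsmul, nrm_fix hf]
    refine ⟨c • nrm p f x, x - c • nrm p f x, by abel, this, ?_⟩
    rw [nrm_sub, nrm_of_fix this, smul_smul, mul_comm, hc, sub_self]
  let I : TwoSidedIdeal M := TwoSidedIdeal.mk' {x | ∀ a b, a * x * b ∈ C} (fun a b => by simp)
    (fun hx hy a b => by rw [mul_add, add_mul]; exact add_mem (hx a b) (hy a b))
    (fun hx a b => by rw [mul_neg, neg_mul]; exact neg_mem (hx a b))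
    (fun hy a b => by rw [← mul_assoc]; exact hy _ b)
    (fun hx a b => by rw [← mul_assoc, mul_assoc _ _ b]; exact hx a _)
  obtain ⟨y, hy⟩ : ∃ y, y - f y ≠ 0 := by
    by_contra h
    push Not at h
    exact h1 (RingEquiv.ext fun y => (sub_eq_zero.1 (h y)).symm)
  have hk : nrm p f (y - f y) = 0 := by rw [nrm_sub, nrm_apply hf, sub_self]
  have k4 : ∀ a b, f a = a → f b = b → a * (y - f y) * b ∈ C := fun a b ha hb =>
    k2 _ (by rw [nrm_mul ha hb, hk, mul_zero, zero_mul])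
  have := IsSimpleRing.one_mem_of_ne_zero_mem I hy ((TwoSidedIdeal.mem_mk' ..).2 fun a b => by
    obtain ⟨a0, a1, rfl, h2, h3⟩ := k3 a
    obtain ⟨b0, b1, rfl, h4, h5⟩ := k3 b
    rw [add_mul, add_mul, mul_add, mul_add]
    refine add_mem (add_mem (k4 _ _ h2 h4) ?_) (add_mem ?_ (mul_mem (mul_mem (k2 _ h3) (hC y)) (k2 _ h5)))
    · exact mul_mem (by simpa using k4 _ 1 h2 (map_one f)) (k2 _ h5)
    · rw [mul_assoc]; exact mul_mem (k2 _ h3) (by simpa using k4 1 _ (map_one f) h4))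
  simpa using (TwoSidedIdeal.mem_mk' ..).1 this x 1

variable {F : Type*} [Field F] [Algebra F M]

/-- `θ` is `σ`-semilinear -/
def Semi (θ : RingAut M) (σ : RingAut F) : Prop := ∀ (c : F) (x : M), θ (c • x) = σ c • θ x

theorem Semi.mul {θ θ' : RingAut M} {σ σ' : RingAut F} (h : Semi θ σ) (h' : Semi θ' σ') :
    Semi (θ * θ') (σ * σ') := fun c x => by
  rw [RingAut.mul_apply, h', h]; rfl

theorem Semi.pow {θ : RingAut M} {σ : RingAut F} (h : Semi θ σ) (i : ℕ) : Semi (θ ^ i) (σ ^ i) := by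
  induction i with
  | zero => exact fun _ _ => rfl
  | succ i ih => rw [pow_succ, pow_succ]; exact ih.mul h

theorem Semi.uniq [Nontrivial M] {θ : RingAut M} {σ σ' : RingAut F} (h : Semi θ σ) (h' : Semi θ σ') : σ = σ' :=
  RingEquiv.ext fun c => smul_left_injective F (one_ne_zero (α := M)) (by
    have := (h c 1).symm.trans (h' c 1)
    rwa [map_one] at this)

theorem Semi.pow_eq_one [Nontrivial M] {θ : RingAut M} {σ : RingAut F} (h : Semi θ σ) (hp : θ ^ p = 1) :
    σ ^ p = 1 := (h.pow p).uniq (hp ▸ fun _ _ => rfl)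

/-- Dedekind -/
theorem Semi.ded [Nontrivial M] [Fact p.Prime] {θ : RingAut M} {σ : RingAut F} (h : Semi θ σ) (h1 : σ ≠ 1)
    (hp : θ ^ p = 1) (W : Submodule F M) {y : M} (hy : ∀ s : F, nrm p θ (s • y) ∈ W) : y ∈ W := by
  by_contra hc
  obtain ⟨φ, h2, h3⟩ := W.exists_dual_map_eq_bot_of_notMem hc inferInstance
  have ho : orderOf σ = p := orderOf_eq_prime (h.pow_eq_one hp) h1
  have li := (linearIndependent_monoidHom F F).comp (fun i : Fin p => ((σ ^ i.1 : RingAut F) : F →* F))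
    fun i j e => Fin.ext (pow_injOn_Iio_orderOf (x := σ) (by simp [ho]) (by simp [ho])
      (RingEquiv.ext fun c => DFunLike.congr_fun e c))
  refine h2 (Fintype.linearIndependent_iff.1 li (fun i => φ ((θ ^ i.1) y)) (funext fun s => ?_)
    ⟨0, (Fact.out : p.Prime).pos⟩)
  have : φ (nrm p θ (s • y)) = 0 := (Submodule.mem_bot F).1 (h3 ▸ Submodule.mem_map_of_mem (hy s))
  rw [nrm, map_sum, Finset.sum_range] at this
  rw [Finset.sum_apply, Pi.zero_apply, ← this]
  refine Finset.sum_congr rfl fun i _ => ?_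
  rw [h.pow, map_smul, smul_eq_mul, mul_comm]; rfl

/-- Hilbert 90 -/
theorem Semi.h90 [Nontrivial M] [Fact p.Prime] {θ : RingAut M} {σ : RingAut F} (h : Semi θ σ) (h1 : σ ≠ 1)
    (hp : θ ^ p = 1) {y : M} (h0 : y ≠ 0) {c : F} (hy : θ y = c • y) : ∃ t : F, t ≠ 0 ∧ θ (t • y) = t • y := by
  obtain ⟨s, hs⟩ : ∃ s : F, nrm p θ (s • y) ≠ 0 := by
    by_contra hc
    push Not at hc
    exact h0 (h.ded h1 hp ⊥ hc)
  have k : ∀ i : ℕ, (θ ^ i) (s • y) ∈ Submodule.span F {y} := fun i => by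
    induction i with
    | zero => exact Submodule.smul_mem _ _ (Submodule.mem_span_singleton_self y)
    | succ i ih =>
      obtain ⟨t, ht⟩ := Submodule.mem_span_singleton.1 ih
      rw [pow_succ', RingAut.mul_apply, ← ht, h, hy]
      exact Submodule.smul_mem _ _ (Submodule.smul_mem _ _ (Submodule.mem_span_singleton_self y))
  obtain ⟨t, ht⟩ := Submodule.mem_span_singleton.1 (show nrm p θ (s • y) ∈ _ from sum_mem fun i _ => k i)
  exact ⟨t, by rintro rfl; exact hs (by rw [← ht, zero_smul]), by rw [ht, nrm_fix hp]⟩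

theorem Semi.eig_pow {θ : RingAut M} (h : Semi θ (1 : RingAut F)) {y : M} {c : F} (hy : θ y = c • y) (i : ℕ) :
    (θ ^ i) y = c ^ i • y := by
  induction i with
  | zero => simp
  | succ i ih => rw [pow_succ', RingAut.mul_apply, ih, h, hy, smul_smul, pow_succ]; rfl

theorem exists_mul_pow_eq_one {A : Type*} [Group A] [Finite A] [IsCyclic A] [Fact p.Prime] {x y : A}
    (hx : x ^ p = 1) (hy : y ^ p = 1) (h1 : y ≠ 1) : ∃ j : ℕ, x * y ^ j = 1 := by
  classical
  have := Fintype.ofFinite A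
  have ho : orderOf y = p := orderOf_eq_prime hy h1
  have h2 := IsCyclic.card_pow_eq_one_le (α := A) (Fact.out : p.Prime).pos
  have h3 : (Finset.range p).image (fun j : ℕ => y ^ j) = Finset.univ.filter (fun a : A => a ^ p = 1) := Finset.eq_of_subset_of_card_le
    (fun a ha => by
      obtain ⟨j, -, rfl⟩ := Finset.mem_image.1 ha
      exact Finset.mem_filter.2 ⟨Finset.mem_univ _, by rw [pow_right_comm, hy, one_pow]⟩)
    (by rwa [Finset.card_image_of_injOn (by simpa [ho] using pow_injOn_Iio_orderOf (x := y)), Finset.card_range])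
  obtain ⟨j, -, hj⟩ := Finset.mem_image.1 (h3.ge (show x⁻¹ ∈ _ by simp [hx]))
  exact ⟨j, by rw [hj, mul_inv_cancel]⟩

theorem cyc_ringAut (F : Type*) [Field F] [Finite F] : IsCyclic (RingAut F) := by
  obtain ⟨p, hp⟩ := CharP.exists F
  have : Fact p.Prime := ⟨CharP.char_is_prime F p⟩
  let := ZMod.algebra F p
  exact isCyclic_of_surjective
    (MonoidHom.mk' (fun f : F ≃ₐ[ZMod p] F => (f.toRingEquiv : RingAut F)) fun _ _ => rfl)
    fun σ => ⟨AlgEquiv.ofRingEquiv (f := σ) fun c => RingHom.congr_fun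
      (RingHom.ext_zmod ((σ : F →+* F).comp (algebraMap (ZMod p) F)) (algebraMap (ZMod p) F)) c, rfl⟩

end Cfsg.Agent.Bal.PS
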