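import Cfsg.Agent.Bal.PSc

/-! Balance for the unit group of a finite central simple algebra. -/

set_option autoImplicit false
set_option linter.dupNamespace false

namespace Cfsg.Agent.Bal.PS

universe u

variable {M : Type u} [Ring M] {F : Type*} [Field F] [Algebra F M] {r p : ℕ}

/-- `g` lies, projectively, in a `p'`-group normalised by the units fixed by `θ` -/
structure Dat (F : Type*) [Field F] [Algebra F M] (p : ℕ) (θ : RingAut M) (g : Mˣ) : Prop where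
  eig : ∃ c : F, θ g.1 = c • g.1
  ex : ∃ N : Subgroup Mˣ, (∀ (k : Mˣ) (t : F), k.1 = t • g.1 → k ∈ N) ∧
    (∀ k ∈ N, ∃ m : ℕ, m.Coprime p ∧ ∃ c : F, (k ^ m).1 = c • 1) ∧
    ∀ k : Mˣ, θ k.1 = k.1 → ∀ n ∈ N, k * n * k⁻¹ ∈ N

theorem exists_inv [Fact r.Prime] [Fact p.Prime] [CharP F r] (hpr : p ≠ r) :
    ∃ c : ℕ, ∀ y : M, (c * p) • y = y := by
  refine ⟨((p : ZMod r)⁻¹).val, fun y => ?_⟩
  have : ((((p : ZMod r)⁻¹).val * p : ℕ) : F) = ((1 : ℕ) : F) := (CharP.natCast_eq_natCast F r).2 (by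
    rw [← ZMod.natCast_eq_natCast_iff, Nat.cast_mul, ZMod.natCast_zmod_val, Nat.cast_one]
    exact inv_mul_cancel₀ fun h => hpr ((Nat.prime_dvd_prime_iff_eq Fact.out Fact.out).1
      ((ZMod.natCast_eq_zero_iff p r).1 h)).symm)
  rw [← Nat.cast_smul_eq_nsmul F, this, Nat.cast_one, one_smul]

theorem exists_unit {θ : RingAut M} (g : Mˣ) {t : F} (ht : t ≠ 0) (h : θ (t • g.1) = t • g.1) :
    ∃ u : (Fix θ)ˣ, u.1.1 = t • g.1 ∧ (u⁻¹).1.1 = t⁻¹ • (g⁻¹).1 := by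
  have h1 : (t • g.1) * (t⁻¹ • (g⁻¹).1) = 1 := by simp [smul_smul, ht]
  have h2 : (t⁻¹ • (g⁻¹).1) * (t • g.1) = 1 := by simp [smul_smul, ht]
  have h3 : θ (t⁻¹ • (g⁻¹).1) = t⁻¹ • (g⁻¹).1 := by
    rw [← mul_one (θ _), ← h1, ← mul_assoc]
    nth_rewrite 1 [← h]
    rw [← map_mul, h2, map_one, one_mul]
  exact ⟨⟨⟨_, h⟩, ⟨_, h3⟩, Subtype.ext h1, Subtype.ext h2⟩, rfl, rfl⟩

variable [Finite M] [IsSemisimpleRing M] [Fact r.Prime] [Fact p.Prime] [CharP F r]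

theorem Dat.Z (hp2 : p ≠ 2) (hpr : p ≠ r) {θ : RingAut M} (hθ : θ ^ p = 1) {g : Mˣ} (hD : Dat F p θ g) {t : F}
    (ht : t ≠ 0) (h : θ (t • g.1) = t • g.1) :
    (∀ (u : Mˣ) (s : F), s ≠ 0 → θ (s • u.1) = s • u.1 → (∀ x, (u ^ p).1 * x = x * (u ^ p).1) →
      ∀ x, θ x = x → Commute g.1 (x - u.1 * x * (u⁻¹).1)) ∧
    ∀ ζ : F, θ (ζ • 1) = ζ • 1 → ζ ^ p = 1 → ζ ≠ 1 → ∀ x, θ x = x → Commute g.1 x := by
  obtain ⟨c, hc⟩ := exists_inv (M := M) (F := F) hpr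
  have := fix_semisimple hθ hc
  obtain ⟨N, n1, n2, n3⟩ := hD.ex
  obtain ⟨γ, hγ, -⟩ := exists_unit g ht h
  let j : (Fix θ)ˣ →* Mˣ := Units.map (Fix θ).subtype.toMonoidHom
  have : (N.comap j).Normal := ⟨fun n hn k => by
    rw [Subgroup.mem_comap, map_mul, map_mul, map_inv]; exact n3 (j k) k.1.2 _ hn⟩
  have hr : (r : Fix θ) = 0 := Subtype.ext (by
    rw [SubringClass.coe_natCast, ← map_natCast (algebraMap F M), CharP.cast_eq_zero, map_zero]; rfl)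
  obtain ⟨z1, z2⟩ := ringZ hr hp2 hpr (N.comap j) (γ := γ) (fun k hk => by
    obtain ⟨m, hm, c, e⟩ := n2 _ hk
    refine ⟨m, hm, fun x => Subtype.ext ?_⟩
    rw [← map_pow] at e
    change (j (k ^ m)).1 * x.1 = x.1 * (j (k ^ m)).1
    rw [e, smul_mul_assoc, mul_smul_comm, one_mul, mul_one]) (n1 _ t hγ)
  have key : ∀ y : Fix θ, Commute γ.1 y → Commute g.1 y.1 := fun y hy => by
    have : γ.1.1 * y.1 = y.1 * γ.1.1 := congrArg Subtype.val hy
    rw [hγ, smul_mul_assoc, mul_smul_comm] at this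
    exact smul_right_injective M ht this
  refine ⟨fun u s hs h1 h2 x hx => ?_, fun ζ h1 h2 h3 x hx => key ⟨x, hx⟩ (z2 ⟨_, h1⟩ (fun y => Subtype.ext ?_)
    (Subtype.ext ?_) ?_ _)⟩
  · obtain ⟨v, v1, v2⟩ := exists_unit u hs h1
    have := key _ (z1 v (fun y => Subtype.ext (by
      change (v ^ p).1.1 * y.1 = y.1 * (v ^ p).1.1
      rw [Units.val_pow_eq_pow_val, SubmonoidClass.coe_pow, v1, smul_pow, smul_mul_assoc, mul_smul_comm,
        ← Units.val_pow_eq_pow_val, h2])) ⟨x, hx⟩)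
    change Commute g.1 (x - v.1.1 * x * (v⁻¹).1.1) at this
    rwa [v1, v2, smul_mul_assoc, smul_mul_smul_comm, mul_inv_cancel₀ hs, one_smul] at this
  · change ζ • 1 * y.1 = y.1 * ζ • 1
    rw [smul_mul_assoc, mul_smul_comm, one_mul, mul_one]
  · change (ζ • (1 : M)) ^ p = 1
    rw [smul_pow, h2, one_pow, one_smul]
  · obtain ⟨v, v1, -⟩ := exists_unit (θ := θ) 1 (sub_ne_zero.2 h3) (by
      rw [Units.val_one, sub_smul, map_sub, h1, one_smul, map_one])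
    exact ⟨v, Subtype.ext (by rw [v1, Units.val_one, sub_smul, one_smul]; rfl)⟩

theorem mainM [Finite F] [IsSimpleRing M] (hp2 : p ≠ 2) (hpr : p ≠ r)
    (hcen : ∀ x : M, (∀ y, x * y = y * x) → ∃ c : F, x = c • 1) (E : Submonoid (RingAut M))
    (hsemi : ∀ θ ∈ E, ∃ σ : RingAut F, Semi θ σ)
    (hinn : ∀ θ ∈ E, Semi θ (1 : RingAut F) → ∃ h : Mˣ, ∀ x, θ x = h.1 * x * (h⁻¹).1)
    (hpow : ∀ θ ∈ E, θ ^ p = 1) (hcomm : ∀ a ∈ E, ∀ b ∈ E, Commute a b) {a b : RingAut M} (ha : a ∈ E)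
    (hb : b ∈ E) (hb1 : b ≠ 1) (hab : ∀ j : ℕ, a * b ^ j ≠ 1) {g : Mˣ} (hD : ∀ θ ∈ E, θ ≠ 1 → Dat F p θ g)
    (x : M) : g.1 * x = x * g.1 := by
  obtain ⟨c, hc⟩ := exists_inv (M := M) (F := F) hpr
  obtain ⟨f, hf, hf1, hl⟩ : ∃ f ∈ E, f ≠ 1 ∧ Semi f (1 : RingAut F) := by
    obtain ⟨σ, hσ⟩ := hsemi a ha
    obtain ⟨τ, hτ⟩ := hsemi b hb
    by_cases h : τ = 1
    · exact ⟨b, hb, hb1, h ▸ hτ⟩
    · have := cyc_ringAut F
      have : Finite (RingAut F) := Finite.of_injective (fun σ : RingAut F => (σ : F → F)) DFunLike.coe_injective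
      obtain ⟨j, hj⟩ := exists_mul_pow_eq_one (hσ.pow_eq_one (hpow a ha)) (hτ.pow_eq_one (hpow b hb)) h
      exact ⟨_, mul_mem ha (pow_mem hb j), hab j, hj ▸ hσ.mul (hτ.pow j)⟩
  obtain ⟨h, hh⟩ := hinn f hf hl
  have hhp : ∀ x, (h ^ p).1 * x = x * (h ^ p).1 := fun x => by
    have : ∀ i : ℕ, (f ^ i) x = (h ^ i).1 * x * ((h ^ i)⁻¹).1 := fun i => by
      induction i with
      | zero => simp
      | succ i ih => rw [pow_succ', RingAut.mul_apply, ih, hh, pow_succ', mul_inv_rev]; simp only [Units.val_mul, mul_assoc]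
    rw [← Units.mul_inv_eq_iff_eq_mul, ← this, hpow f hf]; rfl
  have key : ∀ θ ∈ E, θ ≠ 1 → ∀ x, θ x = x → Commute g.1 (x - f x) := fun θ hθ h1 x hx => by
    have hc' : ∀ y, θ (f y) = f (θ y) := fun y => DFunLike.congr_fun (hcomm θ hθ f hf) y
    obtain ⟨ζ, hζ⟩ : ∃ ζ : F, θ h.1 = ζ • h.1 := by
      obtain ⟨ζ, hζ⟩ := hcen ((h⁻¹).1 * θ h.1) fun y => by
        obtain ⟨y, rfl⟩ := θ.surjective y
        have := congrArg (fun z => (h⁻¹).1 * z * θ h.1) (hc' y)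
        simp only [hh, map_mul, mul_assoc, Units.inv_mul_cancel_left] at this
        rw [← map_mul θ (h⁻¹).1, Units.inv_mul, map_one, mul_one] at this
        rw [mul_assoc, this]
      exact ⟨ζ, by rw [← Units.mul_inv_cancel_left h (θ h.1), hζ, mul_smul_comm, mul_one]⟩
    obtain ⟨σ, hσ⟩ := hsemi θ hθ
    obtain ⟨e, he⟩ := (hD θ hθ h1).eig
    have inj : ∀ (k : Mˣ) {s t : F}, s • k.1 = t • k.1 → s = t := fun k _ _ e => smul_left_injective F k.ne_zero e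
    by_cases hσ1 : σ = 1
    · subst hσ1
      have rt : ∀ (k : Mˣ) {s : F}, θ k.1 = s • k.1 → s ^ p = 1 := fun k s hs =>
        inj k (by rw [← hσ.eig_pow hs, hpow θ hθ, one_smul]; rfl)
      have sc : ∀ s : F, θ (s • 1) = s • 1 := fun s => by rw [hσ, map_one]; rfl
      have he1 : e = 1 := by
        obtain ⟨N, n1, n2, -⟩ := (hD θ hθ h1).ex
        obtain ⟨m, hm, s, hs⟩ := n2 _ (n1 g 1 (one_smul _ _).symm)
        have : e ^ m = 1 := inj (g ^ m) (by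
          rw [one_smul, Units.val_pow_eq_pow_val, ← smul_pow, ← he, ← map_pow, ← Units.val_pow_eq_pow_val, hs, sc])
        exact orderOf_eq_one_iff.1 (Nat.eq_one_of_dvd_coprimes hm (orderOf_dvd_of_pow_eq_one this)
          (orderOf_dvd_of_pow_eq_one (rt g he)))
      obtain ⟨z1, z2⟩ := (hD θ hθ h1).Z hp2 hpr (hpow θ hθ) one_ne_zero (by rw [one_smul, he, he1, one_smul])
      by_cases hζ1 : ζ = 1
      · rw [hh]
        exact z1 h 1 one_ne_zero (by rw [one_smul, hζ, hζ1, one_smul]) hhp x hx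
      · exact z2 ζ (sc ζ) (rt h hζ) hζ1 _ (by rw [map_sub, hc', hx])
    · obtain ⟨t, ht, ht'⟩ := hσ.h90 hσ1 (hpow θ hθ) g.ne_zero he
      obtain ⟨s, hs, hs'⟩ := hσ.h90 hσ1 (hpow θ hθ) h.ne_zero hζ
      rw [hh]
      exact ((hD θ hθ h1).Z hp2 hpr (hpow θ hθ) ht ht').1 h s hs hs' hhp x hx
  let T : AddSubgroup M :=
    { carrier := {y | Commute g.1 (y - f y)}
      zero_mem' := by simp
      add_mem' := fun {x y} hx hy => by
        change Commute _ _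
        rw [map_add, add_sub_add_comm]; exact Commute.add_right hx hy
      neg_mem' := fun {x} hx => by
        change Commute _ _
        rw [map_neg, ← neg_sub']; exact Commute.neg_right hx }
  exact ideal_trick hc (hpow f hf) hf1 (Subring.centralizer {g.1}) (fun y => by
    rintro _ rfl
    exact sum_fix hc (hpow a ha) (hpow b hb) (hcomm a ha b hb) T
      (fun j => key _ (mul_mem ha (pow_mem hb j)) (hab j)) (key b hb hb1) y) x _ rfl

end Cfsg.Agent.Bal.PS
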